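import Groth.Prelude.Def_Lef
import Groth.Agent.ProjFormula.Bidual
import Groth.Agent.CohBase.HomPull

/-!
# Formal sections of a finite locally free module along an ideal sheaf

If `Hom(E^∨, O) → lim Hom(E^∨, O/J^(n+1))` is bijective then compatible families of local sections of `E`
modulo `J^(n+1)E` come from a unique global section.
-/

universe u

set_option autoImplicit false

open CategoryTheory AlgebraicGeometry Opposite TopologicalSpace
open Groth.PicAux (toFun oneSec)
open Groth.RefRank (secToLin secToLin_res secToLin_add secToLin_smul secToLin_surjective germ_secToLin mod_section_ext)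
open Groth.CohTwo.LocFreeDual (dual)
open Groth.QCohMod (germ germ_res)

namespace Groth.LefSections

local notation "ρ" => Groth.QCohMod.res

variable {X : Scheme.{u}}

/-- `x` lies in `J^(n+1) E` over the affine open `V`. -/
abbrev InPow (J : X.IdealSheafData) (E : X.Modules) (n : ℕ) (V : X.affineOpens) (x : Γ(E, V.1)) : Prop :=
  x ∈ ((J.ideal V) ^ (n + 1)) • (⊤ : Submodule Γ(X, V.1) Γ(E, V.1))

theorem toSub_eq_zero_iff (J : X.IdealSheafData) (V : X.affineOpens)
    (a : Γ(Coh.structureModule X, V.1)) :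
    (ClSub.toSubscheme J).app V.1 a = 0 ↔ toFun a ∈ J.ideal V :=
  iff_of_eq (congrArg (toFun a ∈ ·) (J.ker_subschemeι_app V))

theorem toSub_quotMap {I J : X.IdealSheafData} (h : I ≤ J) :
    ClSub.toSubscheme I ≫ Lef.quotMap h = ClSub.toSubscheme J := by
  refine Scheme.Modules.hom_ext _ _ fun W => ?_
  ext s
  let Z := Coh.structureModule J.subscheme
  show ((Scheme.Modules.pushforwardCongr (Scheme.IdealSheafData.inclusion_subschemeι h)).hom.app Z).app W
    (((Scheme.Modules.pushforwardComp (Scheme.IdealSheafData.inclusion h) I.subschemeι).hom.app Z).app W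
      (((Scheme.Modules.pushforward I.subschemeι).map (ClSub.unitToPush (Scheme.IdealSheafData.inclusion h))).app W
        ((ClSub.toSubscheme I).app W s))) = J.subschemeι.app W s
  rw [Scheme.Modules.pushforwardCongr_hom_app_app (M := Z) (Scheme.IdealSheafData.inclusion_subschemeι h) W]
  rw [Scheme.Hom.congr_app (Scheme.IdealSheafData.inclusion_subschemeι h).symm W, Scheme.Hom.comp_app]
  rfl

theorem toSub_secToLin_eq {J : X.IdealSheafData} {E : X.Modules} {n : ℕ} (V : X.affineOpens)
    {x x' : Γ(E, V.1)} (hx : InPow J E n V (x - x')) (f : Γ(dual E, V.1)) :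
    (ClSub.toSubscheme (J ^ (n + 1))).app V.1 (secToLin f x) =
      (ClSub.toSubscheme (J ^ (n + 1))).app V.1 (secToLin f x') := by
  rw [← sub_eq_zero, ← map_sub, ← map_sub, toSub_eq_zero_iff, Scheme.IdealSheafData.ideal_pow, Pi.pow_apply]
  refine Submodule.smul_induction_on hx (fun r hr m _ => ?_) fun a b ha hb => ?_
  · rw [map_smul, PicAux.toFun_smul]
    exact Ideal.mul_mem_right _ _ hr
  · rw [map_add]
    exact Ideal.add_mem _ ha hb

/-- An element killed modulo `a` by every functional lies in `a • ⊤`. -/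
theorem mem_smul_top_of_forall_dual {R M : Type*} [CommRing R] [AddCommGroup M] [Module R M]
    [Module.Finite R M] [Module.Projective R M] (a : Ideal R) {m : M}
    (h : ∀ f : M →ₗ[R] R, f m ∈ a) : m ∈ a • (⊤ : Submodule R M) := by
  classical
  obtain ⟨k, p, hp⟩ := Module.Finite.exists_fin' R M
  obtain ⟨s, hs⟩ := Module.projective_lifting_property p LinearMap.id hp
  have e : m = p (s m) := (LinearMap.congr_fun hs m).symm
  rw [e, pi_eq_sum_univ (s m), map_sum]
  refine Submodule.sum_mem _ fun i _ => ?_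
  rw [map_smul]
  exact Submodule.smul_mem_smul (h ((LinearMap.proj i).comp s)) trivial

theorem inPow_of_forall {J : X.IdealSheafData} {E : X.Modules} (hE : FlatMod.IsFinLocFree E) {n : ℕ}
    (V : X.affineOpens) {x x' : Γ(E, V.1)}
    (h : ∀ f : Γ(dual E, V.1), (ClSub.toSubscheme (J ^ (n + 1))).app V.1 (secToLin f x) =
      (ClSub.toSubscheme (J ^ (n + 1))).app V.1 (secToLin f x')) : InPow J E n V (x - x') := by
  have := KTheory.LocFree.isQCoh hE
  obtain ⟨_, _⟩ := LocFree.finite_projective_sections hE V.2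
  refine mem_smul_top_of_forall_dual _ fun g => ?_
  let L : Γ(X, V.1) →ₗ[Γ(X, V.1)] Γ(Coh.structureModule X, V.1) :=
    { toFun := fun a => a, map_add' := fun _ _ => rfl, map_smul' := fun _ _ => rfl }
  obtain ⟨f, hf⟩ := secToLin_surjective (F := E) (G := Coh.structureModule X) V.2 (L.comp g)
  have := h f
  rw [← sub_eq_zero, ← map_sub, ← map_sub, hf, toSub_eq_zero_iff] at this
  simpa [Scheme.IdealSheafData.ideal_pow, toFun, L] using this

theorem exists_affine_le (W : X.Opens) {x : X} (hx : x ∈ W) :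
    ∃ V : X.affineOpens, x ∈ V.1 ∧ V.1 ≤ W := by
  obtain ⟨_, ⟨V, hV, rfl⟩, hxV, hVW⟩ := X.isBasis_affineOpens.exists_subset_of_mem_open
    (show x ∈ (W : Set X) from hx) W.2
  exact ⟨⟨V, hV⟩, hxV, hVW⟩

theorem section_ext_affine (M : X.Modules) {W : X.Opens} {s t : Γ(M, W)}
    (h : ∀ (V : X.affineOpens) (hV : V.1 ≤ W), ρ M hV s = ρ M hV t) : s = t := by
  refine mod_section_ext M fun x hx => ?_
  obtain ⟨V, hxV, hVW⟩ := exists_affine_le W hx
  rw [← germ_res M hVW x hxV s, h V hVW, germ_res]

theorem app_ρ {M N : X.Modules} (φ : M ⟶ N) {U V : X.Opens} (h : V ≤ U) (x : Γ(M, U)) :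
    φ.app V (ρ M h x) = ρ N h (φ.app U x) :=
  PicAux.app_res φ h x

variable {J : X.IdealSheafData} {E : X.Modules}

theorem hom_ext_affine {M N : X.Modules} {φ ψ : M ⟶ N}
    (h : ∀ (V : X.affineOpens) (a : Γ(M, V.1)), φ.app V.1 a = ψ.app V.1 a) : φ = ψ := by
  refine Scheme.Modules.hom_ext _ _ fun W => ?_
  ext a
  refine section_ext_affine N fun V hV => ?_
  rw [← app_ρ, ← app_ρ, h]

/-- Global sections and morphisms out of the dual. -/
theorem exists_hom_of_section (s : Γ(E, ⊤)) :
    ∃ φ : dual E ⟶ Coh.structureModule X, ∀ (V : X.Opens) (f : Γ(dual E, V)),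
      φ.app V f = secToLin f (ρ E le_top s) := by
  obtain ⟨φ, hφ⟩ := CohBase.HomPull.exists_hom_of_global ((RefHull.bidualMap E).app ⊤ s :
    Γ(RefHull.homSh (dual E) (Coh.structureModule X), ⊤))
  refine ⟨φ, fun V f => (hφ V f).trans ?_⟩
  rw [← ProjFormula.secToLin_bidual, app_ρ]
  refine mod_section_ext (Coh.structureModule X) fun x hx => ?_
  rw [RefRank.germ_applySec, germ_secToLin]
  rfl

theorem exists_section_of_hom (hE : FlatMod.IsFinLocFree E) (φ : dual E ⟶ Coh.structureModule X) :
    ∃ s : Γ(E, ⊤), ∀ (V : X.Opens) (f : Γ(dual E, V)), secToLin f (ρ E le_top s) = φ.app V f := by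
  have := ProjFormula.isIso_bidualMap hE
  obtain ⟨s, hs⟩ := (ConcreteCategory.bijective_of_isIso ((RefHull.bidualMap E).app ⊤)).2
    (CohBase.HomPull.secOfHom φ)
  refine ⟨s, fun V f => ?_⟩
  rw [← ProjFormula.secToLin_bidual, app_ρ, hs]
  refine mod_section_ext (Coh.structureModule X) fun x hx => ?_
  rw [germ_secToLin]
  exact RefHull.stalkMapₗ_germ φ x hx f

/-- A global section is zero as soon as it lies in every `J^(n+1) E`. -/
theorem section_ext (hE : FlatMod.IsFinLocFree E) (h : Lef.HomToFormalBijective J (dual E))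
    {s t : Γ(E, ⊤)} (hst : ∀ (n : ℕ) (V : X.affineOpens), InPow J E n V (ρ E le_top s - ρ E le_top t)) :
    s = t := by
  have := ProjFormula.isIso_bidualMap hE
  obtain ⟨φ, hφ⟩ := exists_hom_of_section s
  obtain ⟨ψ, hψ⟩ := exists_hom_of_section t
  have e : φ = ψ := h.1 φ ψ fun n => hom_ext_affine fun V f => by
    show (ClSub.toSubscheme (J ^ (n + 1))).app V.1 (φ.app V.1 f) =
      (ClSub.toSubscheme (J ^ (n + 1))).app V.1 (ψ.app V.1 f)
    rw [hφ, hψ]
    exact toSub_secToLin_eq V (hst n V) f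
  refine (ConcreteCategory.bijective_of_isIso ((RefHull.bidualMap E).app ⊤)).1 ?_
  refine RefRank.hom_ext_sec fun x => ?_
  obtain ⟨V, hxV, -⟩ := exists_affine_le ⊤ x.2
  have hq : FlatMod.IsFinLocFree (dual E) := LocFree.isFinLocFree_homSh hE (LocFree.isFinLocFree_unit X)
  have := KTheory.LocFree.isQCoh hq
  refine RefRank.stalkHom_ext V.2 hxV fun f => ?_
  have key : ∀ r : Γ(E, ⊤), ((RefHull.bidualMap E).app ⊤ r :
      Γ(RefHull.homSh (dual E) (Coh.structureModule X), ⊤)).1 x (germ (dual E) x.1 hxV f) =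
      germ (Coh.structureModule X) x.1 hxV (secToLin f (ρ E le_top r)) := fun r => by
    rw [← ProjFormula.secToLin_bidual, app_ρ, germ_secToLin]
    rfl
  rw [key, key, ← hφ, ← hψ, e]

/-- Compatible families of local sections modulo powers of `J` come from a global section. -/
theorem exists_section (hE : FlatMod.IsFinLocFree E) (h : Lef.HomToFormalBijective J (dual E))
    (e : ∀ (_ : ℕ) (V : X.affineOpens), Γ(E, V.1))
    (hres : ∀ (n : ℕ) (V V' : X.affineOpens) (hle : V'.1 ≤ V.1),
      InPow J E n V' (ρ E hle (e n V) - e n V'))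
    (hsucc : ∀ (n : ℕ) (V : X.affineOpens), InPow J E n V (e (n + 1) V - e n V)) :
    ∃ s : Γ(E, ⊤), ∀ (n : ℕ) (V : X.affineOpens), InPow J E n V (ρ E le_top s - e n V) := by
  let q : ∀ n : ℕ, Coh.structureModule X ⟶ ClSub.quotMod (J ^ (n + 1)) := fun n => ClSub.toSubscheme _
  have hy : ∀ n : ℕ, ∃ y : dual E ⟶ ClSub.quotMod (J ^ (n + 1)), ∀ (V : X.affineOpens) (W : X.Opens)
      (hW : W ≤ V.1) (f : Γ(dual E, W)), y.app W f = (q n).app W (secToLin f (ρ E hW (e n V))) := by
    intro n
    refine PicAux.exists_hom_of_cover (U := fun V : X.affineOpens => V.1)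
      (eq_top_iff.mpr fun x _ => Opens.mem_iSup.mpr ?_) (fun V W hW f => (q n).app W (secToLin f (ρ E hW (e n V))))
      (fun V W hW f g => by rw [secToLin_add, LinearMap.add_apply, map_add])
      (fun V W hW r f => by rw [secToLin_smul, LinearMap.smul_apply, Scheme.Modules.Hom.app_smul])
      (fun V W W' hW hW' f => by
        show ρ _ hW' ((q n).app W (secToLin f (ρ E hW (e n V)))) =
          (q n).app W' (secToLin (ρ (dual E) hW' f) (ρ E (hW'.trans hW) (e n V)))
        rw [← app_ρ, ← secToLin_res, QCohMod.res_res])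
      (fun V V' W hW hW' f => section_ext_affine _ fun V'' hV'' => by
        rw [← app_ρ, ← app_ρ, ← secToLin_res, ← secToLin_res, QCohMod.res_res, QCohMod.res_res]
        exact (toSub_secToLin_eq V'' (hres n V V'' (hV''.trans hW)) _).trans
          (toSub_secToLin_eq V'' (hres n V' V'' (hV''.trans hW')) _).symm)
    obtain ⟨V, hxV, -⟩ := exists_affine_le (⊤ : X.Opens) (x := x) trivial
    exact ⟨V, hxV⟩
  choose y hy using hy
  have hy' : ∀ n (V : X.affineOpens) (f : Γ(dual E, V.1)),
      (y n).app V.1 f = (q n).app V.1 (secToLin f (e n V)) := fun n V f => by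
    rw [hy n V V.1 le_rfl f, show ρ E le_rfl (e n V) = e n V from PicAux.res_self (M := E) le_rfl (e n V)]
  have hcomp : Lef.IsFormalHom J (dual E) y := fun n => hom_ext_affine fun V f => by
    show (Lef.quotMap (Lef.pow_succ_le J n)).app V.1 ((y (n + 1)).app V.1 f) = _
    rw [hy', hy']
    refine Eq.trans (congrArg (fun φ => Scheme.Modules.Hom.app φ V.1 (secToLin f (e (n + 1) V)))
      (toSub_quotMap (Lef.pow_succ_le J n))) ?_
    exact toSub_secToLin_eq V (hsucc n V) f
  obtain ⟨φ, hφ⟩ := h.2 y hcomp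
  obtain ⟨s, hs⟩ := exists_section_of_hom hE φ
  refine ⟨s, fun n V => inPow_of_forall hE V fun f => ?_⟩
  rw [hs]
  exact (congrArg (fun ψ => Scheme.Modules.Hom.app ψ V.1 f) (hφ n)).trans (hy' n V f)

end Groth.LefSections
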