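import Groth.Agent.LefSections.Basic
import Groth.Agent.PicAux.Pullback
import Groth.Prelude.Def_FSch3

/-!
# Full faithfulness of completion gives bijectivity of `Hom(D, O) → lim Hom(D, O/J^(n+1))`
-/

universe u

set_option autoImplicit false

open CategoryTheory AlgebraicGeometry Opposite TopologicalSpace
open Groth.PicAux (pullSec pullUnit oneSec)

namespace Groth.LefSections.Compl

variable {X Y Z : Scheme.{u}}

theorem pushUnit_eq (f : Y ⟶ X) : Groth.PicAux.pushUnit f = ClSub.unitToPush f := rfl

/-- The transpose of a map `D ⟶ f_*O_Y` composed with `f^*O_X ≅ O_Y`. -/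
noncomputable def transpose (f : Y ⟶ X) {D : X.Modules}
    (y : D ⟶ (Scheme.Modules.pushforward f).obj (Coh.structureModule Y)) :
    (Scheme.Modules.pullback f).obj D ⟶ (Scheme.Modules.pullback f).obj (Coh.structureModule X) :=
  have := Groth.PicAux.isIso_pullUnit f
  ((Scheme.Modules.pullbackPushforwardAdjunction f).homEquiv _ _).symm y ≫ inv (pullUnit f)

theorem transpose_spec (f : Y ⟶ X) {D : X.Modules}
    (y : D ⟶ (Scheme.Modules.pushforward f).obj (Coh.structureModule Y)) :
    (Scheme.Modules.pullbackPushforwardAdjunction f).homEquiv _ _ (transpose f y ≫ pullUnit f) = y := by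
  have := Groth.PicAux.isIso_pullUnit f
  simp [transpose]

theorem transpose_comp_toPush (f : Y ⟶ X) {D : X.Modules} (φ : D ⟶ Coh.structureModule X) :
    transpose f (φ ≫ ClSub.unitToPush f) = (Scheme.Modules.pullback f).map φ := by
  have := Groth.PicAux.isIso_pullUnit f
  rw [transpose, IsIso.comp_inv_eq, Equiv.symm_apply_eq, Adjunction.homEquiv_unit, Functor.map_comp,
    ← pushUnit_eq, ← Groth.PicAux.unit_pullUnit, ← Category.assoc, ← Category.assoc]
  congr 1
  exact (Scheme.Modules.pullbackPushforwardAdjunction f).unit.naturality φ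

theorem transpose_injective (f : Y ⟶ X) {D : X.Modules} :
    Function.Injective (transpose f : (D ⟶ _) → _) := fun y y' h => by
  rw [← transpose_spec f y, ← transpose_spec f y', h]

theorem transpose_app (f : Y ⟶ X) {D : X.Modules}
    (y : D ⟶ (Scheme.Modules.pushforward f).obj (Coh.structureModule Y)) (U : X.Opens) (a : Γ(D, U)) :
    (pullUnit f).app (f ⁻¹ᵁ U) ((transpose f y).app (f ⁻¹ᵁ U) (pullSec f D a)) = y.app U a :=
  congr(($((transpose_spec f y))).app U a)

theorem pullbackComp_pullUnit (g : Z ⟶ Y) (f : Y ⟶ X) :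
    (Scheme.Modules.pullbackComp g f).hom.app (Coh.structureModule X) ≫ pullUnit (g ≫ f) =
      (Scheme.Modules.pullback g).map (pullUnit f) ≫ pullUnit g := by
  refine ((Scheme.Modules.pullbackPushforwardAdjunction g).homEquiv _ _).injective
    (((Scheme.Modules.pullbackPushforwardAdjunction f).homEquiv _ _).injective
      (Groth.PicAux.hom_structure_ext ?_))
  show (pullUnit (g ≫ f)).app _ (((Scheme.Modules.pullbackComp g f).hom.app (Coh.structureModule X)).app
      (g ⁻¹ᵁ f ⁻¹ᵁ ⊤) (pullSec g _ (pullSec f _ (oneSec X ⊤)))) =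
    (pullUnit g).app _ (((Scheme.Modules.pullback g).map (pullUnit f)).app
      (g ⁻¹ᵁ f ⁻¹ᵁ ⊤) (pullSec g _ (pullSec f _ (oneSec X ⊤))))
  rw [Groth.PicAux.pullSec_comp, Groth.PicAux.pullSec_map, Groth.PicAux.pullbackObjUnit_oneSec]
  exact (Groth.PicAux.pullbackObjUnit_oneSec (g ≫ f)).trans (Groth.PicAux.pullbackObjUnit_oneSec g).symm

/-- The quotient map `f_*O_Y ⟶ f'_*O_Z` of a factorisation `g ≫ f = f'`. -/
noncomputable def quotGen {f : Y ⟶ X} {g : Z ⟶ Y} {f' : Z ⟶ X} (e : g ≫ f = f') :
    (Scheme.Modules.pushforward f).obj (Coh.structureModule Y) ⟶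
      (Scheme.Modules.pushforward f').obj (Coh.structureModule Z) :=
  (Scheme.Modules.pushforward f).map (ClSub.unitToPush g) ≫
    (Scheme.Modules.pushforwardComp g f).hom.app _ ≫ (Scheme.Modules.pushforwardCongr e).hom.app _

/-- The transition isomorphism of a factorisation `g ≫ f = f'`. -/
noncomputable def transGen {f : Y ⟶ X} {g : Z ⟶ Y} {f' : Z ⟶ X} (e : g ≫ f = f') :
    Scheme.Modules.pullback f ⋙ Scheme.Modules.pullback g ≅ Scheme.Modules.pullback f' :=
  Scheme.Modules.pullbackComp g f ≪≫ Scheme.Modules.pullbackCongr e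

theorem quotMap_eq_quotGen {I K : X.IdealSheafData} (h : I ≤ K) :
    Lef.quotMap h = quotGen (Scheme.IdealSheafData.inclusion_subschemeι h) := rfl

theorem transpose_compat {f : Y ⟶ X} {g : Z ⟶ Y} {f' : Z ⟶ X} (e : g ≫ f = f') {D : X.Modules}
    (y : D ⟶ (Scheme.Modules.pushforward f).obj (Coh.structureModule Y)) :
    (Scheme.Modules.pullback g).map (transpose f y) ≫
        (Scheme.Modules.pullbackComp g f ≪≫ Scheme.Modules.pullbackCongr e).hom.app (Coh.structureModule X) =
      (Scheme.Modules.pullbackComp g f ≪≫ Scheme.Modules.pullbackCongr e).hom.app D ≫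
        transpose f' (y ≫ (Scheme.Modules.pushforward f).map (ClSub.unitToPush g) ≫
          (Scheme.Modules.pushforwardComp g f).hom.app _ ≫
          (Scheme.Modules.pushforwardCongr e).hom.app _) := by
  subst e
  have := Groth.PicAux.isIso_pullUnit (g ≫ f)
  rw [← cancel_mono (pullUnit (g ≫ f))]
  simp only [Category.assoc]
  refine ((Scheme.Modules.pullbackPushforwardAdjunction g).homEquiv _ _).injective
    (((Scheme.Modules.pullbackPushforwardAdjunction f).homEquiv _ _).injective
      (Scheme.Modules.hom_ext _ _ fun U => ?_))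
  ext a
  show (pullUnit (g ≫ f)).app _ (((Scheme.Modules.pullbackComp g f).hom.app (Coh.structureModule X)).app _
      (((Scheme.Modules.pullback g).map (transpose f y)).app (g ⁻¹ᵁ f ⁻¹ᵁ U) (pullSec g _ (pullSec f _ a)))) =
    (pullUnit (g ≫ f)).app _ ((transpose (g ≫ f) _).app _
      (((Scheme.Modules.pullbackComp g f).hom.app D).app (g ⁻¹ᵁ f ⁻¹ᵁ U) (pullSec g _ (pullSec f _ a))))
  rw [Groth.PicAux.pullSec_comp, Groth.PicAux.pullSec_map]
  refine Eq.trans ?_ (transpose_app (g ≫ f) _ U a).symm
  refine (congr(($(pullbackComp_pullUnit g f)).app (g ⁻¹ᵁ f ⁻¹ᵁ U)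
    (pullSec g _ ((transpose f y).app (f ⁻¹ᵁ U) (pullSec f D a))))).trans ?_
  refine ((congrArg ((pullUnit g).app _) (Groth.PicAux.pullSec_map g (pullUnit f) _)).trans
    (congr(($(Groth.PicAux.unit_pullUnit g)).app (f ⁻¹ᵁ U) _))).trans ?_
  rw [transpose_app]
  show _ = ((Scheme.Modules.pushforwardCongr (rfl : g ≫ f = g ≫ f)).hom.app (Coh.structureModule Z)).app U
    (g.app (f ⁻¹ᵁ U) (y.app U a))
  rw [Scheme.Modules.pushforwardCongr_hom_app_app (M := Coh.structureModule Z) rfl U]
  exact (DFunLike.congr_fun (congrArg ConcreteCategory.hom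
    ((Coh.structureModule Z).presheaf.map_id (op ((g ≫ f) ⁻¹ᵁ U)))) _).symm

theorem transpose_gen {f : Y ⟶ X} {g : Z ⟶ Y} {f' : Z ⟶ X} (e : g ≫ f = f') {D : X.Modules}
    (y : D ⟶ (Scheme.Modules.pushforward f).obj (Coh.structureModule Y))
    (y' : D ⟶ (Scheme.Modules.pushforward f').obj (Coh.structureModule Z)) (hy : y ≫ quotGen e = y') :
    (Scheme.Modules.pullback g).map (transpose f y) ≫ ((transGen e).app (Coh.structureModule X)).hom =
      ((transGen e).app D).hom ≫ transpose f' y' := by
  rw [← hy]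
  exact transpose_compat e y

theorem homToFormalBijective (J : X.IdealSheafData) (D : X.Modules)
    (h : Function.Bijective fun φ : D ⟶ Coh.structureModule X => FSch.complModMap J φ) :
    Lef.HomToFormalBijective J D := by
  let ι := fun n => FSch.completionToX X J n
  refine ⟨fun φ ψ hφψ => h.1 (FSch.ModSys.Hom.ext (funext fun n => ?_)), fun y hy => ?_⟩
  · show (Scheme.Modules.pullback (ι n)).map φ = (Scheme.Modules.pullback (ι n)).map ψ
    rw [← transpose_comp_toPush, ← transpose_comp_toPush]
    exact congrArg _ (hφψ n)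
  · have hcomm : ∀ n, (Scheme.Modules.pullback ((FSch.completionAlong X J).ι n)).map
          (transpose (ι (n + 1)) (y (n + 1))) ≫ ((FSch.complMod J (Coh.structureModule X)).e n).hom =
        ((FSch.complMod J D).e n).hom ≫ transpose (ι n) (y n) := fun n => by
      have h1 := hy n
      rw [quotMap_eq_quotGen] at h1
      have ht : FSch.complTransIso J n =
          transGen (Scheme.IdealSheafData.inclusion_subschemeι (FSch.pow_succ_le X J n)) := rfl
      have hT := transpose_gen (Scheme.IdealSheafData.inclusion_subschemeι (FSch.pow_succ_le X J n))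
        (y (n + 1)) (y n) h1
      rw [← ht] at hT
      simp only [ι, FSch.complMod_e]
      exact hT
    obtain ⟨φ, hφ⟩ := h.2 ⟨fun n => transpose (ι n) (y n), hcomm⟩
    refine ⟨φ, fun n => transpose_injective (ι n) ?_⟩
    exact (transpose_comp_toPush (ι n) φ).trans
      (congrArg (fun t : FSch.ModSys.Hom _ _ => t.app n) hφ)

end Groth.LefSections.Compl
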