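import Groth.Agent.LefSections.Basic
import Groth.Agent.RefRank.Norm.FinLocFree
import Groth.Agent.BlowUpBasics.IdealComap
import Groth.Agent.Pi1FEt.FullClopen
import Groth.Agent.SGA7.ClopenSection

/-!
# Finite etale covers and formal sections: restriction to `V(J)` is fully faithful
-/

universe u

set_option autoImplicit false

open CategoryTheory CategoryTheory.Limits AlgebraicGeometry Opposite TopologicalSpace
open Groth.SGA7.ClopenSection
open Groth.CohTwo.LocFreeDual (dual)

namespace Groth.LefSections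

variable {U : Scheme.{u}}

/-- The direct image of the structure module. -/
noncomputable abbrev pushO {A : Scheme.{u}} (π : A ⟶ U) : U.Modules :=
  (Coh.push π).obj (Coh.structureModule A)

theorem mem_smul_top_iff_map {R S M : Type*} [CommRing R] [CommRing S] [AddCommGroup M] [Module R M]
    (φ : R →+* S) (I : Ideal R) (e : M ≃+ S) (he : ∀ (r : R) (m : M), e (r • m) = φ r * e m) (m : M) :
    m ∈ I • (⊤ : Submodule R M) ↔ e m ∈ I.map φ := by
  constructor
  · intro hm
    refine Submodule.smul_induction_on hm (fun r hr m _ => ?_) fun a b ha hb => ?_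
    · rw [he]
      exact Ideal.mul_mem_right _ _ (Ideal.mem_map_of_mem _ hr)
    · rw [map_add]
      exact Ideal.add_mem _ ha hb
  · intro hm
    let N : Ideal S :=
      { carrier := {y | e.symm y ∈ I • (⊤ : Submodule R M)}
        zero_mem' := by simp
        add_mem' := fun {a b} ha hb => by
          show e.symm (a + b) ∈ I • (⊤ : Submodule R M)
          rw [map_add]
          exact Submodule.add_mem _ ha hb
        smul_mem' := fun s y hy => by
          show e.symm (s * y) ∈ I • (⊤ : Submodule R M)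
          obtain ⟨z, rfl⟩ := e.surjective y
          change e.symm (e z) ∈ I • (⊤ : Submodule R M) at hy
          rw [e.symm_apply_apply] at hy
          refine Submodule.smul_induction_on (p := fun z => e.symm (s * e z) ∈ I • (⊤ : Submodule R M)) hy
            (fun r hr z _ => ?_) fun a b ha hb => ?_
          · have h1 : e.symm (s * e (r • z)) = r • e.symm (s * e z) := by
              apply e.injective
              rw [he, e.apply_symm_apply, he, e.apply_symm_apply]
              exact mul_left_comm _ _ _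
            rw [h1]
            exact Submodule.smul_mem_smul hr trivial
          · rw [map_add, mul_add, map_add]
            exact Submodule.add_mem _ ha hb }
    have hle : I.map φ ≤ N := Ideal.map_le_iff_le_comap.mpr fun r hr => by
      show e.symm (φ r) ∈ I • (⊤ : Submodule R M)
      have h1 : e.symm (φ r) = r • e.symm 1 := by
        apply e.injective
        rw [he, e.apply_symm_apply, e.apply_symm_apply, mul_one]
      rw [h1]
      exact Submodule.smul_mem_smul hr trivial
    have := hle hm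
    change e.symm (e m) ∈ I • (⊤ : Submodule R M) at this
    rwa [e.symm_apply_apply] at this

theorem inPow_push_iff {A : Scheme.{u}} (π : A ⟶ U) [IsAffineHom π] (J : U.IdealSheafData) (n : ℕ)
    (V : U.affineOpens) (x : Γ(pushO π, V.1)) :
    InPow J (pushO π) n V x ↔
      ((J.comap π) ^ (n + 1)).subschemeι.app (π ⁻¹ᵁ V.1) (x : Γ(A, π ⁻¹ᵁ V.1)) = 0 := by
  let W : A.affineOpens := ⟨π ⁻¹ᵁ V.1, V.2.preimage π⟩
  have hk : ((J.comap π) ^ (n + 1)).subschemeι.app (π ⁻¹ᵁ V.1) (x : Γ(A, π ⁻¹ᵁ V.1)) = 0 ↔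
      (x : Γ(A, π ⁻¹ᵁ V.1)) ∈ (J.ideal V ^ (n + 1)).map (π.app V.1).hom := by
    refine (iff_of_eq (congrArg ((x : Γ(A, W.1)) ∈ ·)
      (((J.comap π) ^ (n + 1)).ker_subschemeι_app W))).trans ?_
    rw [Scheme.IdealSheafData.ideal_pow, Pi.pow_apply,
      Groth.BlowUpBasics.ideal_comap π J V W le_rfl, Scheme.Hom.appLE_eq_app, ← Ideal.map_pow]
  rw [hk]
  exact mem_smul_top_iff_map (M := Γ(pushO π, V.1)) (π.app V.1).hom (J.ideal V ^ (n + 1))
    { toFun := fun z => z, invFun := fun z => z, left_inv := fun _ => rfl, right_inv := fun _ => rfl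
      map_add' := fun _ _ => rfl } (fun _ _ => rfl) x

theorem app_res_top {X Y : Scheme.{u}} (f : X ⟶ Y) (W : Y.Opens) (s : Γ(Y, ⊤)) :
    f.app W (Y.presheaf.map (homOfLE (le_top : W ≤ ⊤)).op s) =
      X.presheaf.map (homOfLE (le_top : f ⁻¹ᵁ W ≤ ⊤)).op (f.appTop s) :=
  congr($(f.naturality (homOfLE (le_top : W ≤ ⊤)).op) s)

theorem app_eq_res_of_comp {X Y Z : Scheme.{u}} {g : Z ⟶ Y} {f : Y ⟶ X} {f' : Z ⟶ X} (e : g ≫ f = f')
    (W : X.Opens) (a : Γ(X, W)) (y : Γ(Y, ⊤))
    (h : f.app W a = Y.presheaf.map (homOfLE (le_top : f ⁻¹ᵁ W ≤ ⊤)).op y) :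
    f'.app W a = Z.presheaf.map (homOfLE (le_top : f' ⁻¹ᵁ W ≤ ⊤)).op (g.appTop y) := by
  subst e
  rw [Scheme.Hom.comp_app]
  refine (congrArg (g.app (f ⁻¹ᵁ W)) h).trans ?_
  exact app_res_top g _ y

theorem basicOpen_of_isInd {X : Scheme.{u}} {A : X.Opens} {e : Γ(X, ⊤)} (he : IsInd A e)
    (hA : IsClosed (A : Set X)) : X.basicOpen e = A := by
  refine SetLike.ext fun x => ?_
  rw [Scheme.mem_basicOpen X e x (show x ∈ (⊤ : X.Opens) from trivial)]
  let B : X.Opens := ⟨(A : Set X)ᶜ, hA.isOpen_compl⟩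
  by_cases hx : x ∈ A
  · have := congrArg (X.presheaf.germ A x hx) (he.1 A le_rfl)
    rw [TopCat.Presheaf.germ_res_apply, map_one] at this
    simp only [hx, iff_true]
    exact this ▸ isUnit_one
  · have := congrArg (X.presheaf.germ B x hx) (he.2 B disjoint_compl_left)
    rw [TopCat.Presheaf.germ_res_apply, map_zero] at this
    simp only [hx, iff_false]
    exact fun hu => not_isUnit_zero (this ▸ hu)

theorem isClopen_basicOpen {X : Scheme.{u}} {e : Γ(X, ⊤)} (h : e * e = e) :
    IsClopen (X.basicOpen e : Set X) := by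
  have hc : IsCompl (X.basicOpen e : Set X) (X.basicOpen (1 - e) : Set X) := by
    refine ⟨Set.disjoint_iff_inter_eq_empty.mpr ?_, codisjoint_iff_le_sup.mpr fun x _ => ?_⟩
    · rw [← Opens.coe_inf, ← Scheme.basicOpen_mul, mul_sub, mul_one, h, sub_self, Scheme.basicOpen_zero]
      rfl
    · have ht : x ∈ (⊤ : X.Opens) := trivial
      change x ∈ X.basicOpen e ∨ x ∈ X.basicOpen (1 - e)
      rw [Scheme.mem_basicOpen X e x ht, Scheme.mem_basicOpen X (1 - e) x ht, map_sub, map_one]
      exact IsLocalRing.isUnit_or_isUnit_one_sub_self _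
  exact ⟨by rw [← hc.symm.compl_eq]; exact (X.basicOpen _).isOpen.isClosed_compl, (X.basicOpen e).isOpen⟩

section Cover

variable (J : U.IdealSheafData) {A : Scheme.{u}} (π : A ⟶ U) [IsFinite π] [Flat π] [LocallyOfFinitePresentation π]

theorem eq_of_forall_appTop_eq (h : Lef.HomToFormalBijective J (dual (pushO π))) (s t : Γ(A, ⊤))
    (hst : ∀ n : ℕ, ((J.comap π) ^ (n + 1)).subschemeι.appTop s =
      ((J.comap π) ^ (n + 1)).subschemeι.appTop t) : s = t := by
  refine section_ext (E := pushO π) (Groth.RefRank.push_isFinLocFree π) h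
    (s := (s : Γ(pushO π, ⊤))) (t := (t : Γ(pushO π, ⊤))) fun n V => ?_
  rw [inPow_push_iff]
  show ((J.comap π) ^ (n + 1)).subschemeι.app (π ⁻¹ᵁ V.1)
    (A.presheaf.map (homOfLE (le_top : π ⁻¹ᵁ V.1 ≤ ⊤)).op s -
      A.presheaf.map (homOfLE (le_top : π ⁻¹ᵁ V.1 ≤ ⊤)).op t) = 0
  rw [map_sub, app_res_top, app_res_top, hst n, sub_self]

theorem exists_appTop_eq (h : Lef.HomToFormalBijective J (dual (pushO π)))
    (y : ∀ n : ℕ, Γ(((J.comap π) ^ (n + 1)).subscheme, ⊤))
    (hy : ∀ n : ℕ, (Scheme.IdealSheafData.inclusion (Lef.pow_succ_le (J.comap π) n)).appTop (y (n + 1)) = y n) :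
    ∃ s : Γ(A, ⊤), ∀ n : ℕ, ((J.comap π) ^ (n + 1)).subschemeι.appTop s = y n := by
  let i : ∀ n : ℕ, ((J.comap π) ^ (n + 1)).subscheme ⟶ A := fun n => ((J.comap π) ^ (n + 1)).subschemeι
  let r : ∀ (n : ℕ) (W : A.Opens), Γ(((J.comap π) ^ (n + 1)).subscheme, i n ⁻¹ᵁ W) := fun n W =>
    ((J.comap π) ^ (n + 1)).subscheme.presheaf.map (homOfLE (le_top : i n ⁻¹ᵁ W ≤ ⊤)).op (y n)
  have hr : ∀ (n : ℕ) (W W' : A.Opens) (hW : W' ≤ W) (a : Γ(A, W)), (i n).app W a = r n W →
      (i n).app W' (A.presheaf.map (homOfLE hW).op a) = r n W' := fun n W W' hW a ha => by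
    refine (congr($((i n).naturality (homOfLE hW).op) a) :).trans ?_
    refine (congrArg _ ha).trans ?_
    exact congr($((((J.comap π) ^ (n + 1)).subscheme.presheaf.map_comp _ _).symm) (y n))
  have hsurj : ∀ (n : ℕ) (V : U.affineOpens), ∃ a : Γ(A, π ⁻¹ᵁ V.1), (i n).app _ a = r n _ :=
    fun n V => ((J.comap π) ^ (n + 1)).subschemeι_app_surjective ⟨π ⁻¹ᵁ V.1, V.2.preimage π⟩ _
  choose a ha using hsurj
  obtain ⟨s, hs⟩ := exists_section (E := pushO π) (Groth.RefRank.push_isFinLocFree π) h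
    (fun n V => (a n V : Γ(pushO π, V.1)))
    (fun n V V' hle => by
      rw [inPow_push_iff]
      show (i n).app (π ⁻¹ᵁ V'.1) (A.presheaf.map (homOfLE (π.preimage_mono hle)).op (a n V) - a n V') = 0
      rw [map_sub, hr n _ _ _ _ (ha n V), ha, sub_self])
    (fun n V => by
      rw [inPow_push_iff]
      show (i n).app (π ⁻¹ᵁ V.1) (a (n + 1) V - a n V) = 0
      rw [map_sub, ha n V, sub_eq_zero]
      refine (app_eq_res_of_comp (Scheme.IdealSheafData.inclusion_subschemeι (Lef.pow_succ_le (J.comap π) n))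
        _ _ _ (ha (n + 1) V)).trans ?_
      rw [hy n])
  refine ⟨(s : Γ(A, ⊤)), fun n => ?_⟩
  refine TopCat.Sheaf.eq_of_locally_eq' ((J.comap π) ^ (n + 1)).subscheme.sheaf
    (fun V : U.affineOpens => i n ⁻¹ᵁ π ⁻¹ᵁ V.1) ⊤ (fun V => homOfLE le_top) ?_ _ _ fun V => ?_
  · intro x _
    obtain ⟨V, hV, -⟩ := exists_affine_le (⊤ : U.Opens) (x := π (i n x)) trivial
    exact Opens.mem_iSup.mpr ⟨V, hV⟩
  · have h1 := hs n V
    rw [inPow_push_iff] at h1
    change (i n).app (π ⁻¹ᵁ V.1) (A.presheaf.map (homOfLE (le_top : π ⁻¹ᵁ V.1 ≤ ⊤)).op (s : Γ(A, ⊤)) - a n V) = 0 at h1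
    rw [map_sub, sub_eq_zero, app_res_top, ha] at h1
    exact h1

omit [IsFinite π] [Flat π] [LocallyOfFinitePresentation π] in
theorem range_subschemeι_pow (n : ℕ) :
    Set.range ((J.comap π) ^ (n + 1)).subschemeι = π ⁻¹' (J.support : Set U) := by
  rw [Scheme.IdealSheafData.range_subschemeι, Scheme.IdealSheafData.support_pow_succ,
    Scheme.IdealSheafData.support_comap]
  rfl

theorem eq_univ_of_range_subset (h : Lef.HomToFormalBijective J (dual (pushO π))) (C : Set A)
    (hC : IsClopen C) (hsub : π ⁻¹' (J.support : Set U) ⊆ C) : C = Set.univ := by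
  let B : A.Opens := ⟨Cᶜ, hC.isClosed.isOpen_compl⟩
  obtain ⟨e, he⟩ := exists_isInd B ⟨C, hC.isOpen⟩ (Opens.ext (Set.compl_union_self C)) disjoint_compl_left
  have hB : IsClosed (B : Set A) := hC.isOpen.isClosed_compl
  have h0 : e = 0 := eq_of_forall_appTop_eq J π h e 0 fun n => by
    rw [map_zero]
    have hpre : ((J.comap π) ^ (n + 1)).subschemeι ⁻¹ᵁ B = ⊥ := Opens.ext
      (Set.eq_empty_iff_forall_notMem.mpr fun z hz => hz (hsub ((range_subschemeι_pow J π n).subset ⟨z, rfl⟩)))
    have := he.comap ((J.comap π) ^ (n + 1)).subschemeι hB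
    rw [hpre] at this
    exact this.ext (by simp) isInd_zero
  exact Set.compl_empty_iff.mp (congrArg (fun O : A.Opens => (O : Set A)) (he.eq_bot_of_eq_zero h0))

theorem exists_clopen (h : Lef.HomToFormalBijective J (dual (pushO π)))
    (T T' : Set A) (hT : IsClosed T) (hT' : IsClosed T') (hd : Disjoint T T')
    (hu : T ∪ T' = π ⁻¹' (J.support : Set U)) :
    ∃ C : Set A, IsClopen C ∧ ∀ a ∈ π ⁻¹' (J.support : Set U), a ∈ C ↔ a ∈ T := by
  let i : ∀ n : ℕ, ((J.comap π) ^ (n + 1)).subscheme ⟶ A := fun n => ((J.comap π) ^ (n + 1)).subschemeι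
  have hc : ∀ n, i n ⁻¹' T = (i n ⁻¹' T')ᶜ := fun n => Set.ext fun z => by
    have hz : i n z ∈ T ∪ T' := hu ▸ (range_subschemeι_pow J π n).subset ⟨z, rfl⟩
    exact ⟨fun h h' => Set.disjoint_left.mp hd h h', fun h => hz.resolve_right h⟩
  let O : ∀ n, ((J.comap π) ^ (n + 1)).subscheme.Opens := fun n =>
    ⟨i n ⁻¹' T, by rw [hc]; exact (hT'.preimage (i n).continuous).isOpen_compl⟩
  have hO : ∀ n, IsClosed (O n : Set ((J.comap π) ^ (n + 1)).subscheme) := fun n => hT.preimage (i n).continuous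
  have he : ∀ n, ∃ e, IsInd (O n) e := fun n => exists_isInd (O n)
    ⟨(O n : Set _)ᶜ, (hO n).isOpen_compl⟩ (Opens.ext (Set.union_compl_self _)) disjoint_compl_right
  choose e he using he
  obtain ⟨s, hs⟩ := exists_appTop_eq J π h e fun n => by
    have hpre : Scheme.IdealSheafData.inclusion (Lef.pow_succ_le (J.comap π) n) ⁻¹ᵁ O (n + 1) = O n := by
      refine Opens.ext (Set.ext fun z => ?_)
      show i (n + 1) (Scheme.IdealSheafData.inclusion (Lef.pow_succ_le (J.comap π) n) z) ∈ T ↔ i n z ∈ T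
      rw [show i (n + 1) (Scheme.IdealSheafData.inclusion (Lef.pow_succ_le (J.comap π) n) z) = i n z from
        congrArg (fun q => q.base z) (Scheme.IdealSheafData.inclusion_subschemeι (Lef.pow_succ_le (J.comap π) n))]
    have := (he (n + 1)).comap (Scheme.IdealSheafData.inclusion (Lef.pow_succ_le (J.comap π) n)) (hO (n + 1))
    rw [hpre] at this
    exact this.ext (hO n) (he n)
  have hs2 : s * s = s := eq_of_forall_appTop_eq J π h _ _ fun n => by
    rw [map_mul, hs]; exact (he n).sq (hO n)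
  refine ⟨A.basicOpen s, isClopen_basicOpen hs2, fun a ha => ?_⟩
  obtain ⟨w, rfl⟩ := (range_subschemeι_pow J π 0).symm.subset ha
  have e0 := Scheme.preimage_basicOpen (i 0) s
  have e1 : (i 0 ⁻¹ᵁ A.basicOpen s) = O 0 := by
    rw [e0, show (i 0).app ⊤ s = e 0 from hs 0]
    exact basicOpen_of_isInd (he 0) (hO 0)
  exact SetLike.ext_iff.mp e1 w

end Cover

/-- Restriction of finite etale covers to `V(J)` is fully faithful when the formal sections of the
duals of the covers are sections. -/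
theorem restrict_fullyFaithful (J : U.IdealSheafData)
    (h : ∀ A : FEt.Cat U, Lef.HomToFormalBijective J (dual (pushO A.hom))) :
    (FEt.restrict J.subschemeι).Full ∧ (FEt.restrict J.subschemeι).Faithful := by
  have hrange : ∀ A : FEt.Cat U, Set.range (pullback.fst A.hom J.subschemeι).base =
      A.hom ⁻¹' (J.support : Set U) := fun A =>
    (Scheme.Pullback.range_fst _ _).trans (congrArg _ J.range_subschemeι)
  have hinj : ∀ (A : FEt.Cat U) (C : Set ↥A.left), IsClopen C →
      Set.range (pullback.fst A.hom J.subschemeι).base ⊆ C → C = Set.univ := fun A C hC hsub => by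
    have : IsFinite A.hom := A.prop.1
    have : Etale A.hom := A.prop.2
    exact eq_univ_of_range_subset J A.hom (h A) C hC (hrange A ▸ hsub)
  refine ⟨Groth.Pi1FEt.restrict_full_of_clopen _ hinj fun A C₀ hC₀ => ?_,
    Groth.Pi1Etale.restrict_faithful_of_clopen _ hinj⟩
  have : IsFinite A.hom := A.prop.1
  have : Etale A.hom := A.prop.2
  let p := pullback.fst A.hom J.subschemeι
  have hinj' : Function.Injective p := p.isClosedEmbedding.injective
  obtain ⟨C, hC, hmem⟩ := exists_clopen J A.hom (h A) (p '' C₀) (p '' C₀ᶜ)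
    (p.isClosedMap _ hC₀.isClosed) (p.isClosedMap _ hC₀.compl.isClosed)
    ((Set.disjoint_image_iff hinj').mpr disjoint_compl_right)
    (by rw [← Set.image_union, Set.union_compl_self, Set.image_univ]; exact hrange A)
  refine ⟨C, hC, Set.ext fun z => ?_⟩
  refine (hmem (p z) ((hrange A).subset ⟨z, rfl⟩)).trans ?_
  exact hinj'.mem_set_image

end Groth.LefSections
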