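import Groth.Agent.LefSections.Basic
import Groth.Agent.Ega2Proj.SpansFinite
import Groth.Agent.Ega2Proj.QuasiAffineAmple
import Groth.Agent.Chow.QcohExtend
import Groth.Agent.LocFree.SES
import Groth.Agent.LocFree.FP

/-!
# On a quasi-affine scheme bijectivity for the structure module gives it for finite locally free modules
-/

universe u

set_option autoImplicit false

open CategoryTheory CategoryTheory.Limits AlgebraicGeometry

namespace Groth.LefSections.QAff

variable {X : Scheme.{u}}

theorem exists_epi_freeMod [X.IsQuasiAffine] (D : X.Modules) (hD : FlatMod.IsFinLocFree D) :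
    ∃ (k : ℕ) (p : FlatMod.freeMod X k ⟶ D), Epi p := by
  have := KTheory.LocFree.isQCoh hD
  have hFT : CohB1.IsFT D := (Groth.QCohMod.isFT_iff D).2 fun U hU => (LocFree.finite_projective_sections hD hU).1
  obtain ⟨n₀, hn₀⟩ := Groth.Chow.exists_isGloballyGenerated_twist
    (Groth.Ega2Proj.isAmple_of_isQuasiAffine (Groth.Ega2Proj.isInvertible_structure X)) D hFT
  obtain ⟨e⟩ := Groth.PicAux.tensorPow_structure (X := X) n₀
  let φ : CohB1.tensorMod D (CohB1.tensorPow (Coh.structureModule X) n₀) ≅ D :=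
    PicGrp.tensorModIso (Iso.refl D) e ≪≫ SecTwist.unitorR D
  have hq : (CohB1.tensorMod D (CohB1.tensorPow (Coh.structureModule X) n₀)).IsQuasicoherent :=
    (Groth.QCohMod.isQCoh_iff_of_iso φ).2 inferInstance
  obtain ⟨ι, p₀, hp₀⟩ := hn₀ n₀ le_rfl
  obtain ⟨k, p, hp⟩ := Groth.Ega2Proj.exists_epi_freeMod_of_spans _ (Groth.QCohMod.isFT_of_iso φ.symm hFT)
    (Groth.Ega2Proj.spansStalks_of_epi_free (p₀ : (∐ fun _ : ι => Coh.structureModule X) ⟶ _) (hp := hp₀))
  exact ⟨k, p ≫ φ.hom, epi_comp _ _⟩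

variable (J : X.IdealSheafData)

theorem freeMod_bijective (h : Lef.HomToFormalBijective J (Coh.structureModule X)) (k : ℕ) :
    Lef.HomToFormalBijective J (FlatMod.freeMod X k) := by
  let ι := Sigma.ι (fun _ : Fin k => Coh.structureModule X)
  refine ⟨fun φ ψ hφψ => Sigma.hom_ext _ _ fun i => h.1 _ _ fun n => by
    rw [Category.assoc, Category.assoc, hφψ n], fun y hy => ?_⟩
  have hi : ∀ i, Lef.IsFormalHom J (Coh.structureModule X) fun n => ι i ≫ y n := fun i n => by
    show (ι i ≫ y (n + 1)) ≫ _ = ι i ≫ y n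
    rw [Category.assoc, hy n]
  choose φ hφ using fun i => h.2 _ (hi i)
  refine ⟨Sigma.desc φ, fun n => Sigma.hom_ext _ _ fun i => ?_⟩
  rw [← Category.assoc, Sigma.ι_desc]
  exact hφ i n

theorem of_structureModule [X.IsQuasiAffine] (h : Lef.HomToFormalBijective J (Coh.structureModule X))
    (D : X.Modules) (hD : FlatMod.IsFinLocFree D) : Lef.HomToFormalBijective J D := by
  obtain ⟨k, p, hp⟩ := exists_epi_freeMod D hD
  refine ⟨fun φ ψ hφψ => (cancel_epi p).1 ((freeMod_bijective J h k).1 _ _ fun n => by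
    rw [Category.assoc, Category.assoc, hφψ n]), fun y hy => ?_⟩
  have hy' : Lef.IsFormalHom J _ fun n => p ≫ y n := fun n => by
    show (p ≫ y (n + 1)) ≫ _ = p ≫ y n
    rw [Category.assoc, hy n]
  obtain ⟨φ, hφ⟩ := (freeMod_bijective J h k).2 _ hy'
  have hK : FlatMod.IsFinLocFree (kernel p) := by
    let S := ShortComplex.mk (kernel.ι p) p (kernel.condition p)
    have hS : S.ShortExact := { exact := S.exact_of_f_is_kernel (kernelIsKernel p) }
    exact LocFree.isFinLocFree_left hS (LocFree.isFinLocFree_freeMod X k) hD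
  obtain ⟨m, q, hq⟩ := exists_epi_freeMod (kernel p) hK
  have h0 : kernel.ι p ≫ φ = 0 := (cancel_epi q).1 ((freeMod_bijective J h m).1 _ _ fun n => by
    rw [Category.assoc, Category.assoc, hφ n, kernel.condition_assoc, zero_comp, comp_zero,
      comp_zero, zero_comp])
  let S := ShortComplex.mk (kernel.ι p) p (kernel.condition p)
  have hex : S.Exact := S.exact_of_f_is_kernel (kernelIsKernel p)
  have : Epi S.g := hp
  refine ⟨hex.desc φ h0, fun n => (cancel_epi p).1 ?_⟩
  rw [← Category.assoc]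
  exact (congrArg (fun t : FlatMod.freeMod X k ⟶ _ => t ≫ ClSub.toSubscheme (J ^ (n + 1))) (hex.g_desc φ h0)).trans (hφ n)

end Groth.LefSections.QAff
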